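import Cfsg.Agent.Lib.Fi23P.SylTwo.Defs

/-!
Kernel checks of the fixed points.
-/

set_option autoImplicit false
set_option maxRecDepth 100000

namespace CfsgLib.Fi23P.SylTwo

theorem fix_block0 : (List.range 7).all (fun r => fixCheck (7 * 0 + r)) = true := by decide +kernel

theorem fix_block1 : (List.range 7).all (fun r => fixCheck (7 * 1 + r)) = true := by decide +kernel

theorem fix_block2 : (List.range 7).all (fun r => fixCheck (7 * 2 + r)) = true := by decide +kernel

theorem fix_block3 : (List.range 7).all (fun r => fixCheck (7 * 3 + r)) = true := by decide +kernel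

theorem fix_block4 : (List.range 7).all (fun r => fixCheck (7 * 4 + r)) = true := by decide +kernel

end CfsgLib.Fi23P.SylTwo
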