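import Cfsg.Agent.Lib.Fi23P.SylTwo.Defs

/-!
Kernel checks of the lifts.
-/

set_option autoImplicit false
set_option maxRecDepth 100000

namespace CfsgLib.Fi23P.SylTwo

theorem lift_ok0 : liftCheck 0 = true := by decide +kernel

theorem lift_ok1 : liftCheck 1 = true := by decide +kernel

theorem lift_ok2 : liftCheck 2 = true := by decide +kernel

theorem lift_ok3 : liftCheck 3 = true := by decide +kernel

theorem lift_ok4 : liftCheck 4 = true := by decide +kernel

theorem lift_ok5 : liftCheck 5 = true := by decide +kernel

theorem lift_ok6 : liftCheck 6 = true := by decide +kernel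

end CfsgLib.Fi23P.SylTwo
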