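import Cfsg.Agent.Lib.Fi23P.SylTwo.Defs

/-!
Small kernel checks of the tables.
-/

set_option autoImplicit false
set_option maxRecDepth 100000

namespace CfsgLib.Fi23P.SylTwo

theorem sub_zero_table : subList.all (fun S => S.contains 0) = true := by decide +kernel

theorem vec_table : vecList.all (fun v => Nat.blt v (2 ^ 20)) = true := by decide +kernel

theorem invols_length : invols.length = 35 := by decide +kernel

theorem lift_length : genIdx.length = 7 := by decide +kernel

end CfsgLib.Fi23P.SylTwo
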