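import Cfsg.Agent.Lib.Fi23P.SylTwo.Defs

/-!
Kernel checks of the tables.
-/

set_option autoImplicit false
set_option maxRecDepth 100000

namespace CfsgLib.Fi23P.SylTwo

theorem pt_table : (List.range 23).all (fun x => Nat.blt (ptAt x) 31671 &&
    (List.range x).all fun y => !Nat.beq (ptAt y) (ptAt x)) = true := by
  decide +kernel

theorem perm_table : (List.range 128).all (fun i => Nat.blt (invAt i) 128 &&
    Nat.beq (invAt (invAt i)) i &&
    (List.range 23).all fun x => Nat.blt (permAt i x) 23 &&
      Nat.beq (permAt (invAt i) (permAt i x)) x) = true := by
  decide +kernel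

theorem one_table : ((List.range 128).all (fun i => Nat.beq (mulAt i 0) i) &&
    (List.range 23).all fun x => Nat.beq (permAt 0 x) x) = true := by
  decide +kernel

theorem gen_table : (List.range 128).all (fun i => (List.range 7).all fun t =>
    Nat.blt (mulAt i (genAt t)) 128 && Nat.blt (genAt t) 128 &&
    (List.range 23).all fun x =>
      Nat.beq (permAt (mulAt i (genAt t)) x) (permAt i (permAt (genAt t) x))) = true := by
  decide +kernel

theorem par_table : (List.range 128).all (fun j => Nat.beq j 0 ||
    (Nat.blt (parList.getD j (0, 0)).1 j && Nat.blt (parList.getD j (0, 0)).2 7 &&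
      (List.range 128).all fun i =>
        Nat.beq (mulAt i j)
          (mulAt (mulAt i (parList.getD j (0, 0)).1) (genAt (parList.getD j (0, 0)).2)))) = true := by
  decide +kernel

theorem par_hit : (List.range 128).all (fun j => Nat.beq j 0 ||
    Nat.beq (mulAt (parList.getD j (0, 0)).1 (genAt (parList.getD j (0, 0)).2)) j) = true := by
  decide +kernel

theorem code_table : (List.range 128).all (fun i => (List.range i).all fun j =>
    !Nat.beq (codeOf j) (codeOf i)) = true := by
  decide +kernel

theorem basis_table : (basisVec == basisIdx.map vecAt) = true ∧ basisIdx.length = 11 ∧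
    basisIdx.all (fun j => Nat.blt j 23) = true ∧ involImg.length = invols.length ∧
    fixMask.length = invols.length := by
  decide +kernel

theorem decode_table : (List.range 2048).all (fun c =>
    Nat.beq (xsum decList (xsum basisVec c)) c) = true := by
  decide +kernel

theorem img_table : (List.range invols.length).all (fun r =>
    involImg.getD r [] == basisIdx.map fun j => vecAt (permAt (invols.getD r 0) j)) = true := by
  decide +kernel

theorem invol_table : (List.range 128).all (fun i =>
    !Nat.beq (mulAt i i) 0 || Nat.beq i 0 || invols.contains i) = true := by
  decide +kernel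

theorem sub_elems : subList.all (fun S => S.all fun a => Nat.beq a 0 || invols.contains a) = true ∧
    (subList.map maskOf).contains (maskOf [0]) = true ∧ invols.all (fun i => Nat.blt i 128) = true := by
  decide +kernel

theorem sub_closed : subList.all (fun S => invols.all fun i =>
    S.contains i || S.any (fun a => !Nat.beq (mulAt a i) (mulAt i a)) ||
      (subList.map maskOf).contains (maskOf (S ++ S.map fun a => mulAt a i))) = true := by
  decide +kernel

theorem sub_bound : subList.all (fun S => Nat.beq (maskOf S) 1 ||
    Nat.ble (S.length * fixCount S) 1024) = true := by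
  decide +kernel

end CfsgLib.Fi23P.SylTwo
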