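import Cfsg.Agent.Lib.Fi23P.SylTwo.Defs

/-!
Kernel checks of the words.
-/

set_option autoImplicit false
set_option maxRecDepth 100000

namespace CfsgLib.Fi23P.SylTwo

theorem transp_block0 : (List.range 8).all (fun j => !(Nat.blt (8 * 0 + j) 23) || transpCheck (8 * 0 + j)) = true := by decide +kernel

theorem transp_block1 : (List.range 8).all (fun j => !(Nat.blt (8 * 1 + j) 23) || transpCheck (8 * 1 + j)) = true := by decide +kernel

theorem transp_block2 : (List.range 8).all (fun j => !(Nat.blt (8 * 2 + j) 23) || transpCheck (8 * 2 + j)) = true := by decide +kernel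

theorem orb_ok0 : orbCheck 0 = true := by decide +kernel

theorem orb_ok1 : orbCheck 1 = true := by decide +kernel

theorem orb_ok2 : orbCheck 2 = true := by decide +kernel

theorem orb_ok3 : orbCheck 3 = true := by decide +kernel

end CfsgLib.Fi23P.SylTwo
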