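import Cfsg.Agent.Lib.Fi23P.PermLevels
import Cfsg.Agent.Lib.Fi23P.SylTwo.Data

/-!
Functions for the checks of a Sylow 2-subgroup of the presented group of degree 31671.
-/

set_option autoImplicit false
set_option maxRecDepth 100000

namespace CfsgLib.Fi23P.SylTwo

/-- A point. -/
def ptAt (x : ℕ) : ℕ := ptList.getD x 0

/-- A word for a transposition. -/
def wordAt (x : ℕ) : List ℕ := wordList.getD x []

/-- A word to a point. -/
def pathAt (x : ℕ) : List ℕ := pathList.getD x []

/-- A point of an orbit. -/
def orbAt (k v : ℕ) : ℕ := (orbPts.getD k []).getD v 0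

/-- Coordinates of a transposition. -/
def vecAt (x : ℕ) : ℕ := vecList.getD x 0

/-- An image under a permutation. -/
def permAt (i x : ℕ) : ℕ := Nat.land (Nat.shiftRight (permPk.getD i 0) (5 * x)) 31

/-- A product. -/
def mulAt (i j : ℕ) : ℕ := Nat.land (Nat.shiftRight (mulPk.getD i 0) (7 * j)) 127

/-- An inverse. -/
def invAt (i : ℕ) : ℕ := invList.getD i 0

/-- The index of a generator. -/
def genAt (t : ℕ) : ℕ := genIdx.getD t 0

/-- The sum of the vectors selected by the binary digits. -/
def xsum : List ℕ → ℕ → ℕ
  | [], _ => 0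
  | v :: l, c => bif Nat.beq (c % 2) 1 then Nat.xor v (xsum l (c / 2)) else xsum l (c / 2)

/-- The set of the numbers in a list as a mask. -/
def maskOf : List ℕ → ℕ
  | [] => 0
  | a :: l => Nat.lor (2 ^ a) (maskOf l)

/-- The first eight images, packed. -/
def codeOf (i : ℕ) : ℕ := Nat.land (permPk.getD i 0) (2 ^ 40 - 1)

/-- The fixed points of an element of order at most two, as a mask. -/
def fixOf (a : ℕ) : ℕ :=
  bif Nat.beq a 0 then 2 ^ 2048 - 1 else fixMask.getD (invols.idxOf a) 0

/-- The common fixed points. -/
def interFix : List ℕ → ℕ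
  | [] => 2 ^ 2048 - 1
  | a :: l => Nat.land (fixOf a) (interFix l)

/-- The number of common fixed points. -/
def fixCount (S : List ℕ) : ℕ := (List.range 2048).countP fun c => (interFix S).testBit c

/-- The checks of a transposition. -/
noncomputable def transpCheck (j : ℕ) : Bool :=
  Nat.beq (fwalk (pathAt j) 0) (ptAt j) && (pathAt j).all (fun g => Nat.blt g 10) &&
    (wordAt j).all (fun g => Nat.blt g 10) &&
    sameBase (wordAt j) ((pathAt j).reverse ++ wordT ++ pathAt j) &&
    (List.range 23).all fun i => Nat.beq (fwalk (wordAt j) (ptAt i)) (ptAt i)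

/-- The checks of an orbit. -/
noncomputable def orbCheck (k : ℕ) : Bool :=
  (List.range 32).all fun v => Nat.blt (orbAt k v) 31671 &&
    ((List.range v).all fun u => !Nat.beq (orbAt k u) (orbAt k v)) &&
    (List.range 23).all fun j =>
      Nat.beq (fwalk (wordAt j) (orbAt k v))
        (orbAt k (Nat.xor v (Nat.land (Nat.shiftRight (vecAt j) (5 * k)) 31)))

/-- The checks of a lift. -/
noncomputable def liftCheck (t : ℕ) : Bool :=
  (liftList.getD t []).all (fun g => Nat.blt g 10) &&
    (List.range 23).all fun x =>
      Nat.beq (fwalk (liftList.getD t []) (ptAt x)) (ptAt (permAt (genAt t) x))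

/-- The check of a fixed-point mask. -/
def fixCheck (r : ℕ) : Bool :=
  (List.range 2048).all fun c =>
    !Nat.beq (xsum (involImg.getD r []) c) (xsum basisVec c) || (fixMask.getD r 0).testBit c

end CfsgLib.Fi23P.SylTwo
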