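import Cfsg.Agent.Lib.Fi23P.SylTwo.Model
import Cfsg.Agent.Lib.Fi23P.SylTwo.CheckWalk
import Cfsg.Agent.Lib.Fi23P.SylTwo.CheckLift
import Cfsg.Agent.Lib.Fi23P.Perm
import Cfsg.Prelude.Def_Transfer

/-!
# A Sylow 2-subgroup of the presented group and its elementary abelian subgroups

The 23 commuting transpositions generate a group `eGrp` of order `2 ^ 11`; a Sylow 2-subgroup
permutes them as a group of order 128.
-/

set_option autoImplicit false
set_option maxRecDepth 100000

namespace CfsgLib.Fi23P.SylTwo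

open CfsgLib.PresCert CfsgLib.PresCert.Fast

attribute [local irreducible] permPk mulPk invList parList genIdx invols involImg fixMask subList
  vecList basisIdx basisVec decList ptList pathList wordList orbPts liftList wordT baseL

theorem transp_ok {j : ℕ} (hj : j < 23) : transpCheck j = true := by
  have e : j = 8 * (j / 8) + j % 8 := (Nat.div_add_mod j 8).symm
  have hm : j % 8 ∈ List.range 8 := List.mem_range.2 (Nat.mod_lt _ (by norm_num))
  have hb : Nat.blt j 23 = true := Nat.blt_eq.mpr hj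
  obtain h | h | h : j / 8 = 0 ∨ j / 8 = 1 ∨ j / 8 = 2 := by omega
  all_goals rw [h] at e
  · have h' := List.all_eq_true.1 transp_block0 _ hm
    rw [← e] at h'; simpa [hb] using h'
  · have h' := List.all_eq_true.1 transp_block1 _ hm
    rw [← e] at h'; simpa [hb] using h'
  · have h' := List.all_eq_true.1 transp_block2 _ hm
    rw [← e] at h'; simpa [hb] using h'

theorem transp_spec {j : ℕ} (hj : j < 23) : fwalk (pathAt j) 0 = ptAt j ∧
    (∀ g ∈ pathAt j, g < 10) ∧ (∀ g ∈ wordAt j, g < 10) ∧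
    sameBase (wordAt j) ((pathAt j).reverse ++ wordT ++ pathAt j) = true ∧
    ∀ i < 23, fwalk (wordAt j) (ptAt i) = ptAt i := by
  have h := transp_ok hj
  simp only [transpCheck, Bool.and_eq_true, List.all_eq_true, Nat.blt_eq, Nat.beq_eq,
    List.mem_range] at h
  exact ⟨h.1.1.1.1, h.1.1.1.2, h.1.1.2, h.1.2, h.2⟩

/-- The origin. -/
noncomputable def oPt : Fin tab.n := ⟨0, zero_lt⟩

theorem ptAt_lt {x : ℕ} (hx : x < 23) : ptAt x < tab.n := by
  have h := List.all_eq_true.1 pt_table x (List.mem_range.2 hx)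
  simp only [Bool.and_eq_true, Nat.blt_eq] at h
  rw [tab_n]
  exact h.1

/-- A point of a transposition. -/
noncomputable def bP (x : Fin 23) : Fin tab.n := ⟨ptAt x, ptAt_lt x.isLt⟩

theorem bP_inj : Function.Injective bP := by
  intro x y e
  have e' : ptAt x = ptAt y := congrArg Fin.val e
  by_contra hne
  rcases Nat.lt_or_gt_of_ne (fun h => hne (Fin.ext h)) with hlt | hlt
  · have h := List.all_eq_true.1 pt_table y (List.mem_range.2 y.isLt)
    simp only [Bool.and_eq_true, List.all_eq_true, List.mem_range, Bool.not_eq_true'] at h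
    simpa [e'] using h.2 x hlt
  · have h := List.all_eq_true.1 pt_table x (List.mem_range.2 x.isLt)
    simp only [Bool.and_eq_true, List.all_eq_true, List.mem_range, Bool.not_eq_true'] at h
    simpa [e'] using h.2 y hlt

/-- A transposition. -/
noncomputable def dT (j : Fin 23) : Cfsg.Spor.Fi23 := act fiGen (wordAt j)

/-- An element carrying the origin to a point. -/
noncomputable def yEl (j : Fin 23) : Cfsg.Spor.Fi23 := act fiGen (pathAt j)

theorem dT_conj_form (j : Fin 23) : dT j = yEl j * eltT * (yEl j)⁻¹ := by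
  obtain ⟨-, hp, -, hs, -⟩ := transp_spec j.isLt
  rw [dT, eq_of_base hs, act_append, act_append, act_reverse fiGen_sq hp, yEl, eltT, ← mul_assoc]

theorem yEl_zero (j : Fin 23) : phi (yEl j) oPt = bP j := by
  obtain ⟨h0, hp, -, -, -⟩ := transp_spec j.isLt
  refine Fin.ext ?_
  rw [yEl, realised.act_apply hp, ← fwalk_eq]
  exact h0

theorem dT_fix (i j : Fin 23) : phi (dT j) (bP i) = bP i := by
  obtain ⟨-, -, hw, -, hf⟩ := transp_spec j.isLt
  refine Fin.ext ?_
  rw [dT, realised.act_apply hw, ← fwalk_eq]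
  exact hf i i.isLt

theorem conj_dT {g : Cfsg.Spor.Fi23} {i j : Fin 23} (h : phi g (bP i) = bP j) :
    g * dT i * g⁻¹ = dT j := by
  set m := (yEl j)⁻¹ * g * yEl i with hm
  have hmem : m ∈ subH := by
    rw [subH_eq]
    intro p hp
    obtain rfl : p = oPt := Fin.ext (List.mem_singleton.1 hp)
    rw [hm, map_mul, map_mul, Equiv.Perm.mul_apply, Equiv.Perm.mul_apply, yEl_zero, h, map_inv,
      Equiv.Perm.inv_def, Equiv.symm_apply_eq, yEl_zero]
  have hg : g = yEl j * m * (yEl i)⁻¹ := by rw [hm]; group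
  rw [hg, dT_conj_form, dT_conj_form]
  calc yEl j * m * (yEl i)⁻¹ * (yEl i * eltT * (yEl i)⁻¹) * (yEl j * m * (yEl i)⁻¹)⁻¹
      = yEl j * (m * eltT) * m⁻¹ * (yEl j)⁻¹ := by group
    _ = yEl j * eltT * (yEl j)⁻¹ := by rw [← t_central hmem]; group

theorem dT_comm (i j : Fin 23) : dT i * dT j = dT j * dT i :=
  (eq_mul_inv_iff_mul_eq.1 (conj_dT (g := dT i) (dT_fix j i)).symm).symm

theorem dT_sq (j : Fin 23) : dT j * dT j = 1 := by
  rw [dT_conj_form, show yEl j * eltT * (yEl j)⁻¹ * (yEl j * eltT * (yEl j)⁻¹) =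
    yEl j * (eltT * eltT) * (yEl j)⁻¹ by group, t_sq]
  group

/-- The group of the transpositions. -/
noncomputable def eGrp : Subgroup Cfsg.Spor.Fi23 := Subgroup.closure (Set.range dT)

theorem dT_mem (j : Fin 23) : dT j ∈ eGrp := Subgroup.subset_closure ⟨j, rfl⟩

theorem eGrp_comm {a b : Cfsg.Spor.Fi23} (ha : a ∈ eGrp) (hb : b ∈ eGrp) : a * b = b * a := by
  have h1 : eGrp ≤ Subgroup.centralizer (Set.range dT) := (Subgroup.closure_le _).2 (by
    rintro _ ⟨i, rfl⟩
    rw [SetLike.mem_coe, Subgroup.mem_centralizer_iff]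
    rintro _ ⟨j, rfl⟩
    exact dT_comm j i)
  have h2 : eGrp ≤ Subgroup.centralizer {a} := (Subgroup.closure_le _).2 (by
    intro z hz
    rw [SetLike.mem_coe, Subgroup.mem_centralizer_iff]
    rintro _ rfl
    exact (Subgroup.mem_centralizer_iff.1 (h1 ha) z hz).symm)
  exact Subgroup.mem_centralizer_iff.1 (h2 hb) a rfl

theorem eGrp_sq {a : Cfsg.Spor.Fi23} (ha : a ∈ eGrp) : a * a = 1 := by
  induction ha using Subgroup.closure_induction with
  | mem x hx => obtain ⟨j, rfl⟩ := hx; exact dT_sq j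
  | one => exact one_mul 1
  | mul x y hx hy ex ey =>
    rw [mul_assoc, ← mul_assoc y x y, eGrp_comm hy hx, mul_assoc x y y, ← mul_assoc x x, ex, ey,
      one_mul]
  | inv x _ ex => rw [← mul_inv_rev, ex, inv_one]

 
theorem eGrp_elementary : Cfsg.IsElementaryAbelian 2 eGrp :=
  ⟨⟨⟨fun a b => Subtype.ext (eGrp_comm a.2 b.2)⟩⟩, fun a ha => by rw [pow_two]; exact eGrp_sq ha⟩

/-- The elements permuting the points as one of the 128 permutations. -/
noncomputable def permGrp : Subgroup Cfsg.Spor.Fi23 where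
  carrier := {g | ∃ i < 128, ∀ x, phi g (bP x) = bP (prm i x)}
  one_mem' := ⟨0, by norm_num, fun x => by simp [prm_zero]⟩
  mul_mem' := by
    rintro a b ⟨i, hi, ha⟩ ⟨j, hj, hb⟩
    exact ⟨mulAt i j, mulAt_lt i j, fun x => by
      rw [map_mul, Equiv.Perm.mul_apply, hb, ha, ← prm_mul hi hj, Equiv.Perm.mul_apply]⟩
  inv_mem' := by
    rintro a ⟨i, hi, ha⟩
    refine ⟨invAt i, (perm_spec hi).1, fun x => ?_⟩
    rw [map_inv, Equiv.Perm.inv_def, Equiv.symm_apply_eq, ha]
    congr 1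
    refine Fin.ext ?_
    rw [prm_val hi, prm_val (perm_spec hi).1]
    have h := ((perm_spec (perm_spec hi).1).2.2 x x.isLt).2
    rw [(perm_spec hi).2.1] at h
    exact h.symm

theorem mem_permGrp {g : Cfsg.Spor.Fi23} :
    g ∈ permGrp ↔ ∃ i < 128, ∀ x, phi g (bP x) = bP (prm i x) := Iff.rfl

/-- The permutation of the points. -/
noncomputable def qHom : permGrp →* Equiv.Perm (Fin 23) where
  toFun g := prm (mem_permGrp.1 g.2).choose
  map_one' := Equiv.ext fun x => bP_inj (by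
    rw [← (mem_permGrp.1 (1 : permGrp).2).choose_spec.2 x]; simp)
  map_mul' a b := Equiv.ext fun x => bP_inj (by
    rw [← (mem_permGrp.1 (a * b).2).choose_spec.2 x, Equiv.Perm.mul_apply,
      ← (mem_permGrp.1 a.2).choose_spec.2, ← (mem_permGrp.1 b.2).choose_spec.2, Subgroup.coe_mul,
      map_mul, Equiv.Perm.mul_apply])

theorem qHom_spec (g : permGrp) (x : Fin 23) : phi g.1 (bP x) = bP (qHom g x) :=
  (mem_permGrp.1 g.2).choose_spec.2 x

theorem qHom_index (g : permGrp) : ∃ i < 128, qHom g = prm i :=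
  ⟨_, (mem_permGrp.1 g.2).choose_spec.1, rfl⟩

theorem qHom_eq {g : permGrp} {i : ℕ} (h : ∀ x, phi g.1 (bP x) = bP (prm i x)) :
    qHom g = prm i :=
  Equiv.ext fun x => bP_inj (by rw [← qHom_spec, h])

theorem lift_ok {t : ℕ} (ht : t < 7) : liftCheck t = true := by
  interval_cases t
  exacts [lift_ok0, lift_ok1, lift_ok2, lift_ok3, lift_ok4, lift_ok5, lift_ok6]

theorem gen_lifted {t : ℕ} (ht : t < 7) : prm (genAt t) ∈ qHom.range := by
  have h := lift_ok ht
  simp only [liftCheck, Bool.and_eq_true, List.all_eq_true, Nat.blt_eq, Nat.beq_eq,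
    List.mem_range] at h
  have hg := (gen_spec (i := 0) (by norm_num) ht).1
  have hx : ∀ x, phi (act fiGen (liftList.getD t [])) (bP x) = bP (prm (genAt t) x) := fun x => by
    refine Fin.ext ?_
    rw [realised.act_apply h.1, ← fwalk_eq]
    show fwalk _ (ptAt x) = ptAt (prm (genAt t) x : Fin 23)
    rw [h.2 x x.isLt, prm_val hg]
  exact ⟨⟨_, mem_permGrp.2 ⟨_, hg, hx⟩⟩, qHom_eq hx⟩

theorem prm_lifted {i : ℕ} : i < 128 → prm i ∈ qHom.range := by
  induction i using Nat.strong_induction_on with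
  | _ i ih =>
    intro hi
    by_cases h0 : i = 0
    · rw [h0, prm_zero]; exact Subgroup.one_mem _
    obtain ⟨p, t, hp, ht, e, -⟩ := par_spec hi h0
    rw [← e, ← (gen_spec (hp.trans hi) ht).2]
    exact Subgroup.mul_mem _ (ih p hp (hp.trans hi)) (gen_lifted ht)

theorem card_range : Nat.card qHom.range = 128 := by
  have hb : Function.Bijective (fun i : Fin 128 => (⟨prm i, prm_lifted i.isLt⟩ : qHom.range)) := by
    refine ⟨fun i j e => Fin.ext (prm_inj i.isLt j.isLt (congrArg Subtype.val e)), ?_⟩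
    rintro ⟨s, g, rfl⟩
    obtain ⟨i, hi, e⟩ := qHom_index g
    exact ⟨⟨i, hi⟩, Subtype.ext e.symm⟩
  rw [← Nat.card_eq_of_bijective _ hb, Nat.card_fin]

theorem eGrp_le : eGrp ≤ permGrp := (Subgroup.closure_le _).2 (by
  rintro _ ⟨j, rfl⟩
  exact ⟨0, by norm_num, fun x => by rw [prm_zero, dT_fix]; rfl⟩)

theorem conj_dT_mem (g : permGrp) (j : Fin 23) : g.1 * dT j * g.1⁻¹ = dT (qHom g j) :=
  conj_dT (qHom_spec g j)

theorem conj_eGrp {g a : Cfsg.Spor.Fi23} (hg : g ∈ permGrp) (ha : a ∈ eGrp) :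
    g * a * g⁻¹ ∈ eGrp := by
  have h : eGrp ≤ eGrp.comap (MulAut.conj g).toMonoidHom := (Subgroup.closure_le _).2 (by
    rintro _ ⟨j, rfl⟩
    show g * dT j * g⁻¹ ∈ eGrp
    rw [conj_dT_mem ⟨g, hg⟩ j]
    exact dT_mem _)
  exact h ha

theorem qHom_eGrp (a : permGrp) (ha : a.1 ∈ eGrp) : qHom a = 1 := by
  have h : eGrp ≤ fixSub phi (List.map ptAt (List.range 23)) := (Subgroup.closure_le _).2 (by
    rintro _ ⟨j, rfl⟩ p hp
    obtain ⟨x, hx, e⟩ := List.mem_map.1 hp
    have hp' : p = bP ⟨x, List.mem_range.1 hx⟩ := Fin.ext e.symm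
    rw [hp', dT_fix])
  rw [← prm_zero]
  exact qHom_eq fun x => by
    rw [prm_zero]
    exact h ha (bP x) (List.mem_map.2 ⟨x, List.mem_range.2 x.isLt, rfl⟩)

/-- Five coordinates. -/
def chunk (v k : ℕ) : ℕ := Nat.land (Nat.shiftRight v (5 * k)) 31

/-- An element translates the four orbits by a vector. -/
def Moves (e : Cfsg.Spor.Fi23) (v : ℕ) : Prop :=
  ∀ k < 4, ∀ u < 32, ∀ p : Fin tab.n, p.val = orbAt k u →
    (phi e p).val = orbAt k (Nat.xor u (chunk v k))

theorem chunk_xor (v w k : ℕ) : chunk (Nat.xor v w) k = Nat.xor (chunk v k) (chunk w k) :=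
  Nat.eq_of_testBit_eq fun b => by
    simp only [chunk, land_hand, xor_hxor, Nat.shiftRight_eq,
      Nat.testBit_and, Nat.testBit_xor, Nat.testBit_shiftRight]
    cases Nat.testBit 31 b <;> simp

theorem chunk_lt (v k : ℕ) : chunk v k < 32 := Nat.lt_succ_of_le Nat.and_le_right

theorem orb_spec {k u : ℕ} (hk : k < 4) (hu : u < 32) : orbAt k u < tab.n ∧
    (∀ u' < u, orbAt k u' ≠ orbAt k u) ∧
    ∀ j < 23, fwalk (wordAt j) (orbAt k u) = orbAt k (Nat.xor u (chunk (vecAt j) k)) := by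
  have hc : orbCheck k = true := by
    interval_cases k
    exacts [orb_ok0, orb_ok1, orb_ok2, orb_ok3]
  have h := List.all_eq_true.1 hc u (List.mem_range.2 hu)
  simp only [Bool.and_eq_true, List.all_eq_true, List.mem_range, Nat.blt_eq, Nat.beq_eq,
    Bool.not_eq_true'] at h
  refine ⟨by rw [tab_n]; exact h.1.1, fun u' hu' e => ?_, h.2⟩
  simpa [e] using h.1.2 u' hu'

theorem orb_inj {k u u' : ℕ} (hk : k < 4) (hu : u < 32) (hu' : u' < 32)
    (e : orbAt k u = orbAt k u') : u = u' := by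
  rcases lt_trichotomy u u' with h | h | h
  · exact absurd e ((orb_spec hk hu').2.1 u h)
  · exact h
  · exact absurd e.symm ((orb_spec hk hu).2.1 u' h)

theorem moves_one : Moves 1 0 := fun k _ u _ p hp => by
  simp [chunk, hp]

theorem moves_dT (j : Fin 23) : Moves (dT j) (vecAt j) := fun k hk u hu p hp => by
  obtain ⟨-, -, hw, -, -⟩ := transp_spec j.isLt
  rw [dT, realised.act_apply hw, hp, ← fwalk_eq, (orb_spec hk hu).2.2 j j.isLt]

theorem moves_mul {a b : Cfsg.Spor.Fi23} {v w : ℕ} (ha : Moves a v) (hb : Moves b w) :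
    Moves (a * b) (Nat.xor v w) := fun k hk u hu p hp => by
  have hb' := hb k hk u hu p hp
  have hlt : Nat.xor u (chunk w k) < 32 := Nat.xor_lt_two_pow (n := 5) hu (chunk_lt w k)
  rw [map_mul, Equiv.Perm.mul_apply, ha k hk _ hlt _ hb', chunk_xor]
  simp only [xor_hxor]
  rw [Nat.xor_comm (chunk v k), ← Nat.xor_assoc]

theorem moves_unique {e : Cfsg.Spor.Fi23} {v w : ℕ} (hv : Moves e v) (hw : Moves e w)
    (h1 : v < 2 ^ 20) (h2 : w < 2 ^ 20) : v = w := by
  refine Nat.eq_of_testBit_eq fun b => ?_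
  by_cases hb : b < 20
  · have hk : b / 5 < 4 := by omega
    let p : Fin tab.n := ⟨orbAt (b / 5) 0, (orb_spec hk (by norm_num)).1⟩
    have e1 := (hv _ hk 0 (by norm_num) p rfl).symm.trans (hw _ hk 0 (by norm_num) p rfl)
    have e2 := orb_inj hk (Nat.xor_lt_two_pow (n := 5) (by norm_num) (chunk_lt v _))
      (Nat.xor_lt_two_pow (n := 5) (by norm_num) (chunk_lt w _)) e1
    have e3 := congrArg (fun z => Nat.testBit z (b % 5)) e2
    have h31 : Nat.testBit 31 (b % 5) = true := by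
      rw [show (31 : ℕ) = 2 ^ 5 - 1 from rfl, Nat.testBit_two_pow_sub_one]
      exact decide_eq_true (Nat.mod_lt _ (by norm_num))
    simp only [chunk, land_hand, Nat.shiftRight_eq,
      Nat.zero_xor, Nat.testBit_and, Nat.testBit_shiftRight, h31, Bool.and_true,
      show 5 * (b / 5) + b % 5 = b by omega] at e3
    exact e3
  · rw [Nat.testBit_eq_false_of_lt (lt_of_lt_of_le h1 (Nat.pow_le_pow_right two_pos (by omega))),
      Nat.testBit_eq_false_of_lt (lt_of_lt_of_le h2 (Nat.pow_le_pow_right two_pos (by omega)))]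

/-- The product of the transpositions selected by the binary digits. -/
noncomputable def eOf : List (Fin 23) → ℕ → Cfsg.Spor.Fi23
  | [], _ => 1
  | j :: l, c => bif Nat.beq (c % 2) 1 then dT j * eOf l (c / 2) else eOf l (c / 2)

theorem eOf_mem : ∀ (l : List (Fin 23)) (c : ℕ), eOf l c ∈ eGrp
  | [], _ => Subgroup.one_mem _
  | j :: l, c => by
    simp only [eOf]
    cases Nat.beq (c % 2) 1
    · exact eOf_mem l _
    · exact Subgroup.mul_mem _ (dT_mem j) (eOf_mem l _)

theorem moves_eOf : ∀ (l : List (Fin 23)) (c : ℕ),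
    Moves (eOf l c) (xsum (l.map fun j : Fin 23 => vecAt j) c)
  | [], _ => moves_one
  | j :: l, c => by
    simp only [eOf, List.map_cons, xsum]
    cases Nat.beq (c % 2) 1
    · exact moves_eOf l _
    · exact moves_mul (moves_dT j) (moves_eOf l _)

theorem xsum_lt : ∀ (l : List (Fin 23)) (c : ℕ), xsum (l.map fun j : Fin 23 => vecAt j) c < 2 ^ 20
  | [], _ => by simp [xsum]
  | j :: l, c => by
    simp only [List.map_cons, xsum]
    cases Nat.beq (c % 2) 1
    · exact xsum_lt l _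
    · refine Nat.xor_lt_two_pow ?_ (xsum_lt l _)
      rcases lt_or_ge (j : ℕ) vecList.length with h | h
      · rw [vecAt, List.getD_eq_getElem _ _ h]
        exact Nat.blt_eq.mp (List.all_eq_true.1 vec_table _ (List.getElem_mem h))
      · rw [vecAt, List.getD_eq_default _ _ h]
        norm_num

theorem conj_eOf (g : permGrp) : ∀ (l : List (Fin 23)) (c : ℕ),
    g.1 * eOf l c * g.1⁻¹ = eOf (l.map fun j => qHom g j) c
  | [], _ => by simp [eOf]
  | j :: l, c => by
    simp only [eOf, List.map_cons]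
    cases Nat.beq (c % 2) 1
    · exact conj_eOf g l _
    · simp only [cond_true]
      rw [← conj_dT_mem g j, ← conj_eOf g l (c / 2)]
      group

/-- The independent transpositions. -/
noncomputable def basisFin : List (Fin 23) :=
  basisIdx.attach.map fun j =>
    ⟨j.1, Nat.blt_eq.mp (List.all_eq_true.1 basis_table.2.2.1 j.1 j.2)⟩

theorem basisFin_map {f : ℕ → ℕ} : basisFin.map (fun j : Fin 23 => f j) = basisIdx.map f := by
  rw [basisFin, List.map_map]
  exact List.attach_map_val ..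

theorem basis_moves (c : ℕ) : Moves (eOf basisFin c) (xsum basisVec c) ∧
    xsum basisVec c < 2 ^ 20 := by
  have e : basisVec = basisFin.map fun j : Fin 23 => vecAt j := by
    rw [basisFin_map, beq_iff_eq.1 basis_table.1]
  rw [e]
  exact ⟨moves_eOf _ c, xsum_lt _ c⟩

theorem eOf_inj : Set.InjOn (eOf basisFin) (Set.Iio 2048) := by
  intro c hc c' hc' e
  have h1 := basis_moves c
  have h2 := basis_moves c'
  rw [← e] at h2
  have hv := moves_unique h1.1 h2.1 h1.2 h2.2
  have d1 := List.all_eq_true.1 decode_table c (List.mem_range.2 hc)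
  have d2 := List.all_eq_true.1 decode_table c' (List.mem_range.2 hc')
  rw [Nat.beq_eq] at d1 d2
  rw [← d1, ← d2, hv]

theorem card_eGrp_ge : 2 ^ 11 ≤ Nat.card eGrp := by
  have := card_fi.1
  have h : Function.Injective
      (fun c : Fin 2048 => (⟨eOf basisFin c, eOf_mem _ _⟩ : eGrp)) :=
    fun c d e => Fin.ext (eOf_inj c.isLt d.isLt (congrArg Subtype.val e))
  simpa using Nat.card_le_card_of_injective _ h

theorem card_two_group {Q : Subgroup Cfsg.Spor.Fi23} (hQ : IsPGroup 2 Q) :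
    Nat.card Q ≤ 2 ^ 18 := by
  have := card_fi.1
  have : Fact (Nat.Prime 2) := ⟨Nat.prime_two⟩
  obtain ⟨k, hk⟩ := hQ.exists_card_eq
  have hdvd : 2 ^ k ∣ 4089470473293004800 := by
    rw [← hk, ← card_fi.2]
    exact Subgroup.card_subgroup_dvd_card Q
  rw [hk]
  refine Nat.pow_le_pow_right two_pos ?_
  by_contra hlt
  exact absurd ((pow_dvd_pow 2 (by omega : 19 ≤ k)).trans hdvd) (by norm_num)

/-- A Sylow subgroup with the required properties. -/
theorem exists_good_subgroup : ∃ P : Subgroup Cfsg.Spor.Fi23, IsPGroup 2 P ∧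
    Nat.card P = 2 ^ 18 ∧ P ≤ permGrp ∧ eGrp ≤ P ∧ Nat.card eGrp = 2 ^ 11 ∧
    ∀ g : permGrp, g.1 ∈ P → qHom g = 1 → g.1 ∈ eGrp := by
  have := card_fi.1
  have : Fact (Nat.Prime 2) := ⟨Nat.prime_two⟩
  have hE : IsPGroup 2 (eGrp.subgroupOf permGrp) := fun x => ⟨1, Subtype.ext (Subtype.ext (by
    simp only [pow_one, SubgroupClass.coe_pow, OneMemClass.coe_one, pow_two]
    exact eGrp_sq x.2))⟩
  obtain ⟨Q, hEQ⟩ := hE.exists_le_sylow
  set f := qHom.rangeRestrict.comp (Q : Subgroup permGrp).subtype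
  have hsurj : Function.Surjective f := by
    rw [← MonoidHom.range_eq_top, MonoidHom.range_comp, Subgroup.range_subtype]
    refine Subgroup.index_eq_one.1 ?_
    have h1 := Subgroup.index_map_dvd (Q : Subgroup permGrp) qHom.rangeRestrict_surjective
    have h2 := Subgroup.index_dvd_card ((Q : Subgroup permGrp).map qHom.rangeRestrict)
    rw [card_range, show (128 : ℕ) = 2 ^ 7 from rfl, Nat.dvd_prime_pow Nat.prime_two] at h2
    obtain ⟨k, -, hk⟩ := h2
    rcases Nat.eq_zero_or_pos k with rfl | hk0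
    · rw [hk, pow_zero]
    · exact absurd (((dvd_pow_self 2 hk0.ne').trans (hk ▸ dvd_rfl)).trans h1) Q.not_dvd_index
  have hcard := f.ker.card_eq_card_quotient_mul_card_subgroup
  rw [Nat.card_congr (QuotientGroup.quotientKerEquivOfSurjective f hsurj).toEquiv,
    card_range] at hcard
  have hQ18 : Nat.card (Q : Subgroup permGrp) ≤ 2 ^ 18 := by
    exact (Nat.card_congr ((Q : Subgroup permGrp).equivMapOfInjective permGrp.subtype
      permGrp.subtype_injective).toEquiv).trans_le (card_two_group (Q.isPGroup'.map _))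
  let ι : eGrp → f.ker := fun a => ⟨⟨⟨a.1, eGrp_le a.2⟩, hEQ a.2⟩,
    Subtype.ext (qHom_eGrp ⟨a.1, eGrp_le a.2⟩ a.2)⟩
  have hι : Function.Injective ι := fun a b e =>
    Subtype.ext (congrArg (fun z : f.ker => (z.1.1.1 : Cfsg.Spor.Fi23)) e)
  have h11 := card_eGrp_ge
  have hle := Nat.card_le_card_of_injective ι hι
  have hk : Nat.card f.ker ≤ 2 ^ 11 := by
    rw [hcard] at hQ18
    omega
  have hbij : Function.Bijective ι :=
    (Nat.bijective_iff_injective_and_card ι).2 ⟨hι, le_antisymm hle (hk.trans h11)⟩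
  refine ⟨(Q : Subgroup permGrp).map permGrp.subtype, Q.isPGroup'.map _, ?_,
    Subgroup.map_subtype_le _, fun a ha => ⟨⟨a, eGrp_le ha⟩, hEQ ha, rfl⟩, by omega, ?_⟩
  · rw [← Nat.card_congr ((Q : Subgroup permGrp).equivMapOfInjective permGrp.subtype
      permGrp.subtype_injective).toEquiv, hcard]
    omega
  · rintro g ⟨g', hg', e⟩ h1
    obtain rfl : g' = g := Subtype.ext e
    obtain ⟨a, ha⟩ := hbij.2 ⟨⟨g', hg'⟩, Subtype.ext h1⟩
    rw [show g'.1 = a.1 from congrArg (fun z : f.ker => (z.1.1.1 : Cfsg.Spor.Fi23)) ha.symm]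
    exact a.2

/-- An elementary abelian subgroup of such a subgroup is small or equals the group of the
transpositions. -/
theorem elementary_bound {P : Subgroup Cfsg.Spor.Fi23} (hP : P ≤ permGrp)
    (hker : ∀ g : permGrp, g.1 ∈ P → qHom g = 1 → g.1 ∈ eGrp)
    (hcardE : Nat.card eGrp = 2 ^ 11) {A : Subgroup Cfsg.Spor.Fi23} (hAP : A ≤ P)
    (hA : Cfsg.IsElementaryAbelian 2 A) :
    Nat.card A ≤ 2 ^ 11 ∧ (Nat.card A = 2 ^ 11 → A = eGrp) := by
  classical
  have := card_fi.1
  set j : A →* permGrp := Subgroup.inclusion (hAP.trans hP)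
  set qa := qHom.comp j
  have hcomm : ∀ a b : A, a * b = b * a := fun a b => hA.1.is_comm.comm a b
  set X := (Finset.range 128).filter fun i => prm i ∈ qa.range with hX
  have memX : ∀ i, i ∈ X ↔ i < 128 ∧ prm i ∈ qa.range := fun i => by simp [hX]
  have hXcard : Nat.card qa.range = X.card := by
    rw [← Nat.card_eq_finsetCard]
    refine (Nat.card_eq_of_bijective
      (fun i : X => (⟨prm i.1, ((memX i.1).1 i.2).2⟩ : qa.range)) ⟨fun a b e => ?_, ?_⟩).symm
    · exact Subtype.ext (prm_inj ((memX a.1).1 a.2).1 ((memX b.1).1 b.2).1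
        (congrArg Subtype.val e))
    · rintro ⟨s, a, rfl⟩
      obtain ⟨i, hi, e⟩ := qHom_index (j a)
      exact ⟨⟨i, (memX i).2 ⟨hi, a, e⟩⟩, Subtype.ext e.symm⟩
  have hkerA : ∀ a : qa.ker, (a.1.1 : Cfsg.Spor.Fi23) ∈ eGrp := fun a =>
    hker (j a.1) (hAP a.1.2) a.2
  have hsur : ∀ a : qa.ker, ∃ c < 2048, eOf basisFin c = a.1.1 := by
    intro a
    have hb : Function.Bijective
        (fun c : Fin 2048 => (⟨eOf basisFin c, eOf_mem _ _⟩ : eGrp)) :=
      (Nat.bijective_iff_injective_and_card _).2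
        ⟨fun c d e => Fin.ext (eOf_inj c.isLt d.isLt (congrArg Subtype.val e)), by
          rw [Nat.card_fin, hcardE]; rfl⟩
    obtain ⟨c, hc⟩ := hb.2 ⟨_, hkerA a⟩
    exact ⟨c, c.isLt, congrArg Subtype.val hc⟩
  set C := (Finset.range 2048).filter fun c => ∀ x ∈ X, x ≠ 0 → Fixes x c with hCdef
  have hfix : ∀ a : qa.ker, ∃ c ∈ C, eOf basisFin c = a.1.1 := by
    intro a
    obtain ⟨c, hc, e⟩ := hsur a
    refine ⟨c, Finset.mem_filter.2 ⟨Finset.mem_range.2 hc, fun x hx _ => ?_⟩, e⟩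
    obtain ⟨hx', b, hb⟩ := (memX x).1 hx
    have hconj := conj_eOf (j b) basisFin c
    rw [e] at hconj
    have hsame : (j b).1 * a.1.1 * ((j b).1)⁻¹ = a.1.1 := by
      have h := congrArg Subtype.val (hcomm b a.1)
      simp only [Subgroup.coe_mul] at h
      show b.1 * a.1.1 * b.1⁻¹ = a.1.1
      rw [h, mul_inv_cancel_right]
    rw [hsame, ← e] at hconj
    have h1 := basis_moves c
    have h2 := moves_eOf (basisFin.map fun i => qHom (j b) i) c
    have h3 := xsum_lt (basisFin.map fun i => qHom (j b) i) c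
    rw [← hconj] at h2
    have hmap : ((basisFin.map fun i => qHom (j b) i).map fun i : Fin 23 => vecAt i) =
        basisIdx.map fun i => vecAt (permAt x i) := by
      rw [← basisFin_map (f := fun i => vecAt (permAt x i)), List.map_map]
      refine List.map_congr_left fun i _ => ?_
      show vecAt (qa b i : Fin 23) = _
      rw [hb, prm_val hx']
    rw [hmap] at h2 h3
    exact moves_unique h2 h1.1 h3 h1.2
  have hkc : Nat.card qa.ker ≤ C.card := by
    choose cf hcf he using hfix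
    rw [← Nat.card_eq_finsetCard]
    refine Nat.card_le_card_of_injective (fun a => (⟨cf a, hcf a⟩ : C)) fun a b e => ?_
    have e' : cf a = cf b := congrArg Subtype.val e
    exact Subtype.ext (Subtype.ext (by rw [← he a, ← he b, e']))
  have hsplit : Nat.card A = X.card * Nat.card qa.ker := by
    rw [qa.ker.card_eq_card_quotient_mul_card_subgroup,
      Nat.card_congr (QuotientGroup.quotientKerEquivRange qa).toEquiv, hXcard]
  have hsq : ∀ x ∈ X, mulAt x x = 0 := by
    intro x hx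
    obtain ⟨hx', b, hb⟩ := (memX x).1 hx
    refine prm_inj (mulAt_lt _ _) (by norm_num) ?_
    rw [← prm_mul hx' hx', prm_zero, ← hb, ← map_mul,
      show b * b = 1 from Subtype.ext (by simpa [pow_two] using hA.2 b.1 b.2), map_one]
  have h := sub_card_bound X ((memX 0).2 ⟨by norm_num, by rw [prm_zero]; exact one_mem _⟩)
    (fun x hx => ((memX x).1 hx).1)
    (fun x hx y hy => (memX _).2 ⟨mulAt_lt _ _, by
      rw [← prm_mul ((memX x).1 hx).1 ((memX y).1 hy).1]
      exact mul_mem ((memX x).1 hx).2 ((memX y).1 hy).2⟩)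
    hsq
    (fun x hx y hy => by
      obtain ⟨hx', a, ha⟩ := (memX x).1 hx
      obtain ⟨hy', b, hb⟩ := (memX y).1 hy
      refine prm_inj (mulAt_lt _ _) (mulAt_lt _ _) ?_
      rw [← prm_mul hx' hy', ← prm_mul hy' hx', ← ha, ← hb, ← map_mul, ← map_mul, hcomm])
    C (fun c hc => ⟨Finset.mem_range.1 (Finset.mem_filter.1 hc).1, (Finset.mem_filter.1 hc).2⟩)
  rcases h with h | h
  · have hsub : A ≤ eGrp := fun a ha => by
      refine hkerA ⟨⟨a, ha⟩, ?_⟩
      obtain ⟨i, hi, e⟩ := qHom_index (j ⟨a, ha⟩)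
      have := h i ((memX i).2 ⟨hi, ⟨a, ha⟩, e⟩)
      show qa ⟨a, ha⟩ = 1
      rw [show qa ⟨a, ha⟩ = prm i from e, this, prm_zero]
    refine ⟨(Subgroup.card_le_of_le hsub).trans_eq hcardE, fun e => ?_⟩
    exact Subgroup.eq_of_le_of_card_ge hsub (by rw [e, hcardE])
  · have : Nat.card A ≤ 1024 := by
      rw [hsplit]
      exact (Nat.mul_le_mul_left _ hkc).trans h
    exact ⟨this.trans (by norm_num), fun e => by omega⟩

/-- A Sylow 2-subgroup has a unique largest elementary abelian normal subgroup, of order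
`2 ^ 11`. -/
theorem sylow_two_elementary (T : Sylow 2 Cfsg.Spor.Fi23) :
    (∀ A : Subgroup Cfsg.Spor.Fi23, A ≤ T → Cfsg.IsElementaryAbelian 2 A →
      Nat.card A ≤ 2 ^ 11) ∧
    ∃ E : Subgroup Cfsg.Spor.Fi23, E ≤ T ∧ (E.subgroupOf T).Normal ∧
      Cfsg.IsElementaryAbelian 2 E ∧ Nat.card E = 2 ^ 11 ∧
      ∀ A : Subgroup Cfsg.Spor.Fi23, A ≤ T → Cfsg.IsElementaryAbelian 2 A →
        Nat.card A = 2 ^ 11 → A = E := by
  have := card_fi.1
  have : Fact (Nat.Prime 2) := ⟨Nat.prime_two⟩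
  obtain ⟨P, hP2, hPc, hPK, hEP, hcE, hker⟩ := exists_good_subgroup
  obtain ⟨Q, hPQ⟩ := hP2.exists_le_sylow
  obtain rfl : P = Q := Subgroup.eq_of_le_of_card_ge hPQ (by
    rw [hPc]; exact card_two_group Q.isPGroup')
  obtain ⟨g, hg⟩ := MulAction.exists_smul_eq Cfsg.Spor.Fi23 Q T
  have memT : ∀ z : Cfsg.Spor.Fi23, z ∈ (T : Subgroup Cfsg.Spor.Fi23) ↔
      g⁻¹ * z * g ∈ (Q : Subgroup Cfsg.Spor.Fi23) := fun z => by
    rw [← hg, Sylow.coe_subgroup_smul, Subgroup.mem_pointwise_smul_iff_inv_smul_mem, ← map_inv,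
      MulAut.smul_def, MulAut.conj_apply, inv_inv]
  set c := (MulAut.conj g).toMonoidHom
  have hinj : Function.Injective c := (MulAut.conj g).injective
  have hE : ∀ A : Subgroup Cfsg.Spor.Fi23, A ≤ T → Cfsg.IsElementaryAbelian 2 A →
      Nat.card A ≤ 2 ^ 11 ∧ (Nat.card A = 2 ^ 11 → A = eGrp.map c) := by
    intro A hAT hA
    have hle : A.comap c ≤ Q := fun a ha => by
      have := (memT _).1 (hAT ha)
      simpa [c, mul_assoc] using this
    have hA' : Cfsg.IsElementaryAbelian 2 (A.comap c) := by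
      refine ⟨⟨⟨fun a b => Subtype.ext (hinj ?_)⟩⟩, fun a ha => hinj ?_⟩
      · simp only [Subgroup.coe_mul, map_mul]
        exact congrArg Subtype.val (hA.1.is_comm.comm ⟨_, a.2⟩ ⟨_, b.2⟩)
      · rw [map_pow, map_one]; exact hA.2 _ ha
    have hmap : (A.comap c).map c = A :=
      Subgroup.map_comap_eq_self_of_surjective (MulAut.conj g).surjective A
    have hc : Nat.card (A.comap c) = Nat.card A := by
      conv_rhs => rw [← hmap]
      exact Nat.card_congr ((A.comap c).equivMapOfInjective c hinj).toEquiv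
    obtain ⟨h1, h2⟩ := elementary_bound hPK hker hcE hle hA'
    refine ⟨hc ▸ h1, fun e => ?_⟩
    rw [← hmap, h2 (hc.trans e)]
  refine ⟨fun A h1 h2 => (hE A h1 h2).1, eGrp.map c, ?_, ⟨?_⟩, ⟨⟨⟨?_⟩⟩, ?_⟩, ?_,
    fun A h1 h2 h3 => (hE A h1 h2).2 h3⟩
  · rintro _ ⟨a, ha, rfl⟩
    rw [memT]
    simpa [c, mul_assoc] using hEP ha
  · intro n hn t
    obtain ⟨a, ha, e⟩ := hn
    refine ⟨g⁻¹ * t.1 * g * a * (g⁻¹ * t.1 * g)⁻¹, conj_eGrp (hPK ((memT _).1 t.2)) ha, ?_⟩
    change g * (g⁻¹ * t.1 * g * a * (g⁻¹ * t.1 * g)⁻¹) * g⁻¹ = t.1 * n.1 * t.1⁻¹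
    rw [show (n.1 : Cfsg.Spor.Fi23) = g * a * g⁻¹ from e.symm]
    group
  · rintro ⟨_, a, ha, rfl⟩ ⟨_, b, hb, rfl⟩
    exact Subtype.ext (by simp only [Subgroup.coe_mul, ← map_mul, eGrp_comm ha hb])
  · rintro _ ⟨a, ha, rfl⟩
    rw [← map_pow, eGrp_elementary.2 a ha, map_one]
  · rw [← Nat.card_congr (eGrp.equivMapOfInjective c hinj).toEquiv, hcE]

end CfsgLib.Fi23P.SylTwo
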