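import Cfsg.Agent.Lib.Fi23P.SylTwo.CheckTable
import Cfsg.Agent.Lib.Fi23P.SylTwo.CheckFix
import Cfsg.Agent.Lib.Fi23P.SylTwo.CheckSmall

/-!
# The permutation group of order 128 and its elementary abelian subgroups
-/

set_option autoImplicit false
set_option maxRecDepth 100000

namespace CfsgLib.Fi23P.SylTwo

attribute [local irreducible] permPk mulPk invList parList genIdx invols involImg fixMask subList
  vecList basisIdx basisVec decList

theorem land_hand (a b : ℕ) : Nat.land a b = a &&& b := rfl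

theorem lor_hor (a b : ℕ) : Nat.lor a b = a ||| b := rfl

theorem xor_hxor (a b : ℕ) : Nat.xor a b = a ^^^ b := rfl

theorem mulAt_lt (i j : ℕ) : mulAt i j < 128 := Nat.lt_succ_of_le Nat.and_le_right

theorem perm_spec {i : ℕ} (hi : i < 128) : invAt i < 128 ∧ invAt (invAt i) = i ∧
    ∀ x < 23, permAt i x < 23 ∧ permAt (invAt i) (permAt i x) = x := by
  have h := List.all_eq_true.1 perm_table i (List.mem_range.2 hi)
  simp only [Bool.and_eq_true, List.all_eq_true, List.mem_range, Nat.blt_eq, Nat.beq_eq] at h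
  exact ⟨h.1.1, h.1.2, h.2⟩

theorem one_spec : (∀ i < 128, mulAt i 0 = i) ∧ ∀ x < 23, permAt 0 x = x := by
  have h := one_table
  simp only [Bool.and_eq_true, List.all_eq_true, List.mem_range, Nat.beq_eq] at h
  exact h

/-- The permutation of a number below 128. -/
def prm (i : ℕ) : Equiv.Perm (Fin 23) :=
  if h : i < 128 then
    { toFun := fun x => ⟨permAt i x, ((perm_spec h).2.2 x x.isLt).1⟩
      invFun := fun x => ⟨permAt (invAt i) x, ((perm_spec (perm_spec h).1).2.2 x x.isLt).1⟩
      left_inv := fun x => Fin.ext ((perm_spec h).2.2 x x.isLt).2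
      right_inv := fun x => Fin.ext (by
        have h' := ((perm_spec (perm_spec h).1).2.2 x x.isLt).2
        rwa [(perm_spec h).2.1] at h') }
  else 1

theorem prm_val {i : ℕ} (hi : i < 128) (x : Fin 23) : ((prm i x : Fin 23) : ℕ) = permAt i x := by
  rw [prm, dif_pos hi]
  rfl

theorem prm_zero : prm 0 = 1 :=
  Equiv.ext fun x => Fin.ext (by rw [prm_val (by norm_num), one_spec.2 x x.isLt]; rfl)

theorem prm_inj {i j : ℕ} (hi : i < 128) (hj : j < 128) (h : prm i = prm j) : i = j := by
  have hc : codeOf i = codeOf j := by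
    refine Nat.eq_of_testBit_eq fun b => ?_
    simp only [codeOf, land_hand, Nat.testBit_and, Nat.testBit_two_pow_sub_one]
    by_cases hb : b < 40
    · have e : permAt i (b / 5) = permAt j (b / 5) := by
        have := congrArg (fun z => ((z ⟨b / 5, by omega⟩ : Fin 23) : ℕ)) h
        simpa [prm_val hi, prm_val hj] using this
      have e2 := congrArg (fun z => Nat.testBit z (b % 5)) e
      simp only [permAt, land_hand, Nat.shiftRight_eq, Nat.testBit_and,
        Nat.testBit_shiftRight] at e2
      rw [show 5 * (b / 5) + b % 5 = b by omega] at e2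
      have h31 : Nat.testBit 31 (b % 5) = true := by
        rw [show (31 : ℕ) = 2 ^ 5 - 1 from rfl, Nat.testBit_two_pow_sub_one]
        exact decide_eq_true (Nat.mod_lt _ (by norm_num))
      simp only [h31, Bool.and_true] at e2
      simp only [e2]
    · simp [hb]
  by_contra hne
  rcases Nat.lt_or_gt_of_ne hne with hlt | hlt
  · have := List.all_eq_true.1 (List.all_eq_true.1 code_table j (List.mem_range.2 hj)) i
      (List.mem_range.2 hlt)
    simp [hc] at this
  · have := List.all_eq_true.1 (List.all_eq_true.1 code_table i (List.mem_range.2 hi)) j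
      (List.mem_range.2 hlt)
    simp [hc] at this

theorem gen_spec {i t : ℕ} (hi : i < 128) (ht : t < 7) :
    genAt t < 128 ∧ prm i * prm (genAt t) = prm (mulAt i (genAt t)) := by
  have h := List.all_eq_true.1 gen_table i (List.mem_range.2 hi)
  simp only [Bool.and_eq_true, List.all_eq_true, List.mem_range, Nat.blt_eq, Nat.beq_eq] at h
  obtain ⟨⟨-, hg⟩, hx⟩ := h t ht
  refine ⟨hg, Equiv.ext fun x => Fin.ext ?_⟩
  rw [Equiv.Perm.mul_apply, prm_val hi, prm_val hg, prm_val (mulAt_lt _ _), hx x x.isLt]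

theorem par_spec {j : ℕ} (hj : j < 128) (h0 : j ≠ 0) : ∃ p t, p < j ∧ t < 7 ∧
    mulAt p (genAt t) = j ∧ ∀ i < 128, mulAt i j = mulAt (mulAt i p) (genAt t) := by
  have h := List.all_eq_true.1 par_table j (List.mem_range.2 hj)
  have h' := List.all_eq_true.1 par_hit j (List.mem_range.2 hj)
  simp only [Bool.or_eq_true, Nat.beq_eq, h0, false_or, Bool.and_eq_true, List.all_eq_true,
    List.mem_range, Nat.blt_eq] at h h'
  exact ⟨_, _, h.1.1, h.1.2, h', h.2⟩

theorem prm_mul {j : ℕ} : ∀ {i : ℕ}, i < 128 → j < 128 → prm i * prm j = prm (mulAt i j) := by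
  induction j using Nat.strong_induction_on with
  | _ j ih =>
    intro i hi hj
    by_cases h0 : j = 0
    · subst h0
      rw [prm_zero, mul_one, one_spec.1 i hi]
    obtain ⟨p, t, hp, ht, e, hall⟩ := par_spec hj h0
    rw [hall i hi, ← (gen_spec (mulAt_lt i p) ht).2, ← ih p hp hi (hp.trans hj), mul_assoc,
      (gen_spec (hp.trans hj) ht).2, e]

theorem testBit_maskOf : ∀ (l : List ℕ) (b : ℕ), (maskOf l).testBit b = decide (b ∈ l)
  | [], b => by simp [maskOf]
  | a :: l, b => by
    simp [maskOf, lor_hor, Nat.testBit_or, testBit_maskOf l b, Nat.testBit_two_pow, eq_comm]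

theorem mem_iff_of_maskOf {S S' : List ℕ} (h : maskOf S = maskOf S') (a : ℕ) : a ∈ S ↔ a ∈ S' := by
  have := congrArg (fun z => Nat.testBit z a) h
  simpa [testBit_maskOf] using this

/-- A fixed vector of a permutation. -/
def Fixes (a c : ℕ) : Prop :=
  xsum (basisIdx.map fun j => vecAt (permAt a j)) c = xsum basisVec c

theorem fix_mask {a c : ℕ} (ha : invols.contains a = true) (hc : c < 2048) (h : Fixes a c) :
    (fixMask.getD (invols.idxOf a) 0).testBit c = true := by
  have hr : invols.idxOf a < invols.length :=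
    List.idxOf_lt_length_of_mem (List.contains_iff_mem.1 ha)
  have himg := List.all_eq_true.1 img_table _ (List.mem_range.2 hr)
  rw [beq_iff_eq, List.getD_eq_getElem invols 0 hr, List.getElem_idxOf hr] at himg
  rw [invols_length] at hr
  have key : ∀ r < 35, fixCheck r = true := by
    intro r hr
    have e : r = 7 * (r / 7) + r % 7 := (Nat.div_add_mod r 7).symm
    have hm : r % 7 ∈ List.range 7 := List.mem_range.2 (Nat.mod_lt _ (by norm_num))
    rw [e]
    obtain h | h | h | h | h : r / 7 = 0 ∨ r / 7 = 1 ∨ r / 7 = 2 ∨ r / 7 = 3 ∨ r / 7 = 4 := by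
      omega
    all_goals rw [h]
    · exact List.all_eq_true.1 fix_block0 _ hm
    · exact List.all_eq_true.1 fix_block1 _ hm
    · exact List.all_eq_true.1 fix_block2 _ hm
    · exact List.all_eq_true.1 fix_block3 _ hm
    · exact List.all_eq_true.1 fix_block4 _ hm
  have hf := List.all_eq_true.1 (key _ hr) c (List.mem_range.2 hc)
  rw [himg, show xsum _ c = xsum basisVec c from h, Nat.beq_refl] at hf
  simpa using hf

theorem fixOf_bit {a c : ℕ} (ha : a = 0 ∨ invols.contains a = true) (hc : c < 2048)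
    (h : a ≠ 0 → Fixes a c) : (fixOf a).testBit c = true := by
  by_cases h0 : a = 0
  · simp only [fixOf, h0, Nat.beq_refl, cond_true, Nat.testBit_two_pow_sub_one, decide_eq_true_eq]
    exact hc
  · have hb : Nat.beq a 0 = false := by
      rw [Bool.eq_false_iff, Ne, Nat.beq_eq]
      exact h0
    simp only [fixOf, hb, cond_false]
    exact fix_mask (ha.resolve_left h0) hc (h h0)

theorem interFix_bit {c : ℕ} (hc : c < 2048) : ∀ {S : List ℕ},
    (∀ a ∈ S, (a = 0 ∨ invols.contains a = true) ∧ (a ≠ 0 → Fixes a c)) →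
      (interFix S).testBit c = true
  | [], _ => by
    simp only [interFix, Nat.testBit_two_pow_sub_one, decide_eq_true_eq]
    exact hc
  | a :: S, h => by
    simp only [interFix, land_hand, Nat.testBit_and, Bool.and_eq_true]
    exact ⟨fixOf_bit (h a List.mem_cons_self).1 hc (h a List.mem_cons_self).2,
      interFix_bit hc fun b hb => h b (List.mem_cons_of_mem _ hb)⟩

theorem zero_mem_of_mem {S : List ℕ} (hS : S ∈ subList) : 0 ∈ S :=
  List.contains_iff_mem.1 (List.all_eq_true.1 sub_zero_table S hS)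

theorem mulAt_zero_left {a : ℕ} (ha : a < 128) : mulAt 0 a = a := by
  refine prm_inj (mulAt_lt _ _) ha ?_
  rw [← prm_mul (by norm_num) ha, prm_zero, one_mul]

theorem sub_exists (X : Finset ℕ) (h0 : 0 ∈ X) (hlt : ∀ x ∈ X, x < 128)
    (hmul : ∀ x ∈ X, ∀ y ∈ X, mulAt x y ∈ X) (hsq : ∀ x ∈ X, mulAt x x = 0)
    (hcomm : ∀ x ∈ X, ∀ y ∈ X, mulAt x y = mulAt y x) :
    ∃ S ∈ subList, ∀ a, a ∈ S ↔ a ∈ X := by
  classical
  obtain ⟨S₀, hS₀, e₀⟩ := List.mem_map.1 (List.contains_iff_mem.1 sub_elems.2.1)
  set C := subList.toFinset.filter fun S => ∀ a ∈ S, a ∈ X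
  have hC₀ : S₀ ∈ C := Finset.mem_filter.2 ⟨List.mem_toFinset.2 hS₀, fun a ha => by
    rw [mem_iff_of_maskOf e₀ a, List.mem_singleton] at ha
    rwa [ha]⟩
  obtain ⟨S, hS, hmax⟩ := C.exists_max_image (fun S => S.toFinset.card) ⟨S₀, hC₀⟩
  rw [Finset.mem_filter, List.mem_toFinset] at hS
  refine ⟨S, hS.1, fun a => ⟨hS.2 a, fun ha => ?_⟩⟩
  by_contra haS
  have hz : a ≠ 0 := fun e => haS (e ▸ zero_mem_of_mem hS.1)
  have hinv : invols.contains a = true := by
    have h := List.all_eq_true.1 invol_table a (List.mem_range.2 (hlt a ha))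
    simpa [hsq a ha, hz] using h
  have h := List.all_eq_true.1 (List.all_eq_true.1 sub_closed S hS.1) a
    (List.contains_iff_mem.1 hinv)
  simp only [Bool.or_eq_true, List.contains_iff_mem, haS, false_or, List.any_eq_true,
    Bool.not_eq_true'] at h
  rcases h with ⟨b, hb, hne'⟩ | h
  · rw [hcomm b (hS.2 b hb) a ha, Nat.beq_refl] at hne'
    exact Bool.noConfusion hne'
  obtain ⟨S', hS', e⟩ := List.mem_map.1 h
  have hC : S' ∈ C := Finset.mem_filter.2 ⟨List.mem_toFinset.2 hS', fun b hb => by
    rw [mem_iff_of_maskOf e b, List.mem_append, List.mem_map] at hb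
    rcases hb with hb | ⟨c, hc, rfl⟩
    · exact hS.2 b hb
    · exact hmul c (hS.2 c hc) a ha⟩
  have hlt2 : S.toFinset.card < S'.toFinset.card := by
    refine Finset.card_lt_card ⟨fun b hb => ?_, fun hsub => haS ?_⟩
    · rw [List.mem_toFinset] at hb ⊢
      exact (mem_iff_of_maskOf e b).2 (List.mem_append_left _ hb)
    · refine List.mem_toFinset.1 (hsub (List.mem_toFinset.2 ((mem_iff_of_maskOf e a).2 ?_)))
      exact List.mem_append_right _ (List.mem_map.2 ⟨0, zero_mem_of_mem hS.1,
        mulAt_zero_left (hlt a ha)⟩)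
  exact absurd (hmax S' hC) (not_le.2 hlt2)

/-- A nontrivial elementary abelian set of indices times its fixed vectors is small. -/
theorem sub_card_bound (X : Finset ℕ) (h0 : 0 ∈ X) (hlt : ∀ x ∈ X, x < 128)
    (hmul : ∀ x ∈ X, ∀ y ∈ X, mulAt x y ∈ X) (hsq : ∀ x ∈ X, mulAt x x = 0)
    (hcomm : ∀ x ∈ X, ∀ y ∈ X, mulAt x y = mulAt y x) (C : Finset ℕ)
    (hC : ∀ c ∈ C, c < 2048 ∧ ∀ x ∈ X, x ≠ 0 → Fixes x c) :
    (∀ x ∈ X, x = 0) ∨ X.card * C.card ≤ 1024 := by
  obtain ⟨S, hS, hmem⟩ := sub_exists X h0 hlt hmul hsq hcomm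
  have h := List.all_eq_true.1 sub_bound S hS
  simp only [Bool.or_eq_true, Nat.beq_eq, Nat.ble_eq] at h
  rcases h with h | h
  · refine Or.inl fun x hx => ?_
    have e := congrArg (fun z => Nat.testBit z x) h
    simp only [testBit_maskOf, (hmem x).2 hx, decide_true] at e
    rcases Nat.eq_zero_or_pos x with h' | h'
    · exact h'
    · rw [show (1 : ℕ) = 2 ^ 0 from rfl, Nat.testBit_two_pow] at e
      simp at e
      omega
  · refine Or.inr (le_trans (Nat.mul_le_mul ?_ ?_) h)
    · calc X.card ≤ S.toFinset.card :=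
            Finset.card_le_card fun x hx => List.mem_toFinset.2 ((hmem x).2 hx)
        _ ≤ S.length := List.toFinset_card_le S
    · have hsub : C ⊆ ((List.range 2048).filter fun c => (interFix S).testBit c).toFinset := by
        intro c hc
        rw [List.mem_toFinset, List.mem_filter, List.mem_range]
        refine ⟨(hC c hc).1, interFix_bit (hC c hc).1 fun a ha => ⟨?_, (hC c hc).2 a ((hmem a).1 ha)⟩⟩
        have h' := List.all_eq_true.1 (List.all_eq_true.1 sub_elems.1 S hS) a ha
        simpa [Nat.beq_eq] using h'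
      refine le_trans (Finset.card_le_card hsub) (le_trans (List.toFinset_card_le _) (le_of_eq ?_))
      rw [fixCount, List.countP_eq_length_filter]

end CfsgLib.Fi23P.SylTwo
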